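/-
The solvable case: if no value `y` has a nontrivial commutator `[y, b]` of order coprime to `o(y)`,
then the corresponding term of the lower central series of a solvable group is nilpotent.
-/
import Cfsg.Agent.Lib.LCSVal.Down
import Cfsg.Agent.Lib.Coprime.PrimeAction
import Cfsg.Agent.Lib.Coprime.Hall

set_option autoImplicit false

namespace Cfsg.Agent.Lib.LCSVal

open Cfsg Cfsg.Agent.Lib.Core.Basic
open scoped Pointwise

universe u v

section lift

variable {G : Type u} {H : Type v} [Group G] [Group H]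

/-- Lifting a `q`-subgroup together with a normalizing element. -/
theorem exists_lift_normalizing [Finite G] (π : G →* H) (hπ : Function.Surjective π) {q : ℕ}
    [Fact q.Prime] (B : Subgroup H) (hB : IsPGroup q B) (g : H)
    (hg : g ∈ Subgroup.normalizer (B : Set H)) :
    ∃ (Q : Subgroup G) (n : G), IsPGroup q Q ∧ Q.map π = B ∧
      n ∈ Subgroup.normalizer (Q : Set G) ∧ π n = g := by
  classical
  haveI : Finite H := Finite.of_surjective π hπ
  set M : Subgroup G := B.comap π with hM
  obtain ⟨gh, rfl⟩ := hπ g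
  have h1 : ∀ x ∈ M, gh * x * gh⁻¹ ∈ M := by
    intro x hx
    rw [hM, Subgroup.mem_comap] at hx ⊢
    rw [map_mul, map_mul, map_inv]
    exact (Subgroup.mem_normalizer_iff.mp hg _).mp hx
  have h2 : ∀ x ∈ M, gh⁻¹ * x * gh ∈ M := by
    intro x hx
    rw [hM, Subgroup.mem_comap] at hx ⊢
    rw [map_mul, map_mul, map_inv]
    have := (Subgroup.mem_normalizer_iff.mp hg ((π gh)⁻¹ * π x * π gh)).mpr
    apply this
    simpa [mul_assoc] using hx
  let φ : MulAut M :=
    { toFun := fun x => ⟨gh * x * gh⁻¹, h1 x x.2⟩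
      invFun := fun x => ⟨gh⁻¹ * x * gh, h2 x x.2⟩
      left_inv := fun x => by
        apply Subtype.ext
        simp [mul_assoc]
      right_inv := fun x => by
        apply Subtype.ext
        simp [mul_assoc]
      map_mul' := fun x y => by
        apply Subtype.ext
        simp [mul_assoc] }
  obtain ⟨Q₀⟩ : Nonempty (Sylow q M) := inferInstance
  obtain ⟨m, hm⟩ := MulAction.exists_smul_eq M Q₀ (φ • Q₀)
  have hm2 : MulAut.conj m • (Q₀ : Subgroup M) = φ • (Q₀ : Subgroup M) := by
    have := congrArg (fun S : Sylow q M => (S : Subgroup M)) hm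
    simpa [Sylow.coe_subgroup_smul, Sylow.pointwise_smul_def] using this
  have hm3 : ∀ y : M, (m⁻¹ * y * m ∈ (Q₀ : Subgroup M)) ↔ (φ⁻¹ y ∈ (Q₀ : Subgroup M)) := by
    intro y
    have h3 : y ∈ MulAut.conj m • (Q₀ : Subgroup M) ↔ y ∈ φ • (Q₀ : Subgroup M) := by rw [hm2]
    rw [Subgroup.mem_pointwise_smul_iff_inv_smul_mem,
      Subgroup.mem_pointwise_smul_iff_inv_smul_mem] at h3
    simpa [MulAut.smul_def, MulAut.conj_inv_apply] using h3
  have hφinv : ∀ y : M, ((φ⁻¹ y : M) : G) = gh⁻¹ * y * gh := fun y => rfl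
  set Q : Subgroup G := (Q₀ : Subgroup M).map M.subtype with hQ
  have hQM : Q ≤ M := by
    rintro x ⟨y, -, rfl⟩
    exact y.2
  have hmemQ : ∀ x (hx : x ∈ M), x ∈ Q ↔ (⟨x, hx⟩ : M) ∈ (Q₀ : Subgroup M) := by
    intro x hx
    constructor
    · rintro ⟨y, hy, rfl⟩
      exact hy
    · intro h
      exact ⟨_, h, rfl⟩
  -- the element `m⁻¹ gh` normalizes `Q`
  have hn₀ : (m : G)⁻¹ * gh ∈ Subgroup.normalizer (Q : Set G) := by
    rw [Subgroup.mem_normalizer_iff]
    intro x
    constructor
    · intro hx
      have hxM : x ∈ M := hQM hx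
      set y : M := ⟨gh * x * gh⁻¹, h1 x hxM⟩ with hy
      have h4 : φ⁻¹ y ∈ (Q₀ : Subgroup M) := by
        have : φ⁻¹ y = ⟨x, hxM⟩ := by
          apply Subtype.ext
          rw [hφinv]
          simp [hy, mul_assoc]
        rw [this]
        exact (hmemQ x hxM).mp hx
      have h5 := (hm3 y).mpr h4
      have h6 : (m : G)⁻¹ * gh * x * ((m : G)⁻¹ * gh)⁻¹ = ((m⁻¹ * y * m : M) : G) := by
        simp [hy, mul_assoc]
      rw [h6]
      exact ⟨_, h5, rfl⟩
    · intro hx
      set z := (m : G)⁻¹ * gh * x * ((m : G)⁻¹ * gh)⁻¹ with hz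
      have hzM : z ∈ M := hQM hx
      set y : M := m * ⟨z, hzM⟩ * m⁻¹ with hy
      have h4 : m⁻¹ * y * m ∈ (Q₀ : Subgroup M) := by
        have : m⁻¹ * y * m = ⟨z, hzM⟩ := by
          rw [hy]
          group
        rw [this]
        exact (hmemQ z hzM).mp hx
      have h5 := (hm3 y).mp h4
      have h6 : ((φ⁻¹ y : M) : G) = x := by
        rw [hφinv, hy]
        simp [hz, mul_assoc]
      rw [← h6]
      exact ⟨_, h5, rfl⟩
  -- `Q` maps onto `B`
  have hQB : Q.map π = B := by
    apply le_antisymm
    · rintro _ ⟨x, hx, rfl⟩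
      exact hQM hx
    · let f : M →* B := (π.comp M.subtype).codRestrict B (fun x => x.2)
      have hf : Function.Surjective f := by
        rintro ⟨b, hb⟩
        obtain ⟨x, rfl⟩ := hπ b
        exact ⟨⟨x, hb⟩, rfl⟩
      have hI := Subgroup.index_map_dvd (Q₀ : Subgroup M) hf
      have hnd := Q₀.not_dvd_index
      obtain ⟨j, hj⟩ := IsPGroup.iff_card.mp hB
      have hI2 : ((Q₀ : Subgroup M).map f).index ∣ q ^ j := by
        rw [← hj]
        exact Subgroup.index_dvd_card _
      obtain ⟨i, -, hi⟩ := (Nat.dvd_prime_pow Fact.out).mp hI2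
      have hi0 : ((Q₀ : Subgroup M).map f).index = 1 := by
        rcases Nat.eq_zero_or_pos i with rfl | hipos
        · simpa using hi
        · exfalso
          apply hnd
          rw [hi] at hI
          exact (dvd_pow_self q hipos.ne').trans hI
      rw [Subgroup.index_eq_one] at hi0
      intro b hb
      have hb2 : (⟨b, hb⟩ : B) ∈ (Q₀ : Subgroup M).map f := by
        rw [hi0]
        trivial
      obtain ⟨x, hx, hx2⟩ := hb2
      refine ⟨x, ⟨x, hx, rfl⟩, ?_⟩
      exact congrArg Subtype.val hx2
  -- adjust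
  have hm4 : π (m : G) ∈ Q.map π := by
    rw [hQB]
    exact m.2
  obtain ⟨r, hr, hrm⟩ := hm4
  refine ⟨Q, r * ((m : G)⁻¹ * gh), Q₀.2.map _, hQB, ?_, ?_⟩
  · exact Subgroup.mul_mem _ (Subgroup.le_normalizer hr) hn₀
  · rw [map_mul, map_mul, map_inv, hrm]
    group

end lift

section words

variable {G : Type u} {H : Type v} [Group G] [Group H]

theorem cm_mem_of_normalizer {Q : Subgroup G} {n u : G} (hn : n ∈ Subgroup.normalizer (Q : Set G))
    (hu : u ∈ Q) : cm u n ∈ Q := by
  have h1 : n * u⁻¹ * n⁻¹ ∈ Q := (Subgroup.mem_normalizer_iff.mp hn _).mp (Q.inv_mem hu)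
  have h2 : cm u n = u * (n * u⁻¹ * n⁻¹) := by
    simp [cm, mul_assoc]
  rw [h2]
  exact Q.mul_mem hu h1

theorem iter_mem {Q : Subgroup G} {n u : G} (hn : n ∈ Subgroup.normalizer (Q : Set G))
    (hu : u ∈ Q) (j : ℕ) : (fun x => cm x n)^[j] u ∈ Q := by
  induction j with
  | zero => exact hu
  | succ j ih =>
    rw [Function.iterate_succ_apply']
    exact cm_mem_of_normalizer hn ih

theorem iter_isVal (n u : G) (j : ℕ) : IsVal j ((fun x => cm x n)^[j] u) := by
  induction j with
  | zero => trivial
  | succ j ih =>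
    rw [Function.iterate_succ_apply']
    exact ⟨_, n, ih, rfl⟩

theorem map_iter (π : G →* H) (n u : G) (j : ℕ) :
    π ((fun x => cm x n)^[j] u) = (fun x => cm x (π n))^[j] (π u) := by
  induction j with
  | zero => rfl
  | succ j ih =>
    rw [Function.iterate_succ_apply', Function.iterate_succ_apply', map_cm, ih]

/-- Conjugation by `g` on a subgroup normalized by `g`. -/
def conjHom (B : Subgroup H) (g : H) (hg : g ∈ Subgroup.normalizer (B : Set H)) : B →* B where
  toFun u := ⟨g * u * g⁻¹, (Subgroup.mem_normalizer_iff.mp hg _).mp u.2⟩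
  map_one' := by
    apply Subtype.ext
    simp
  map_mul' x y := by
    apply Subtype.ext
    simp [mul_assoc]

theorem coe_cf_conjHom (B : Subgroup H) (g : H) (hg : g ∈ Subgroup.normalizer (B : Set H)) (u : B) :
    ((cf (conjHom B g hg) u : B) : H) = cm (u : H) g := by
  simp [cf, conjHom, cm, mul_assoc]

theorem coe_iter_cf (B : Subgroup H) (g : H) (hg : g ∈ Subgroup.normalizer (B : Set H)) (u : B)
    (j : ℕ) : (((cf (conjHom B g hg))^[j] u : B) : H) = (fun x => cm x g)^[j] (u : H) := by
  induction j with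
  | zero => rfl
  | succ j ih =>
    rw [Function.iterate_succ_apply', Function.iterate_succ_apply', coe_cf_conjHom, ih]

theorem conjHom_iter (B : Subgroup H) (g : H) (hg : g ∈ Subgroup.normalizer (B : Set H)) (u : B)
    (j : ℕ) : (((conjHom B g hg)^[j] u : B) : H) = g ^ j * u * (g ^ j)⁻¹ := by
  induction j with
  | zero => simp
  | succ j ih =>
    rw [Function.iterate_succ_apply']
    change g * (((conjHom B g hg)^[j] u : B) : H) * g⁻¹ = _
    rw [ih]
    simp [pow_succ', mul_assoc]

/-- From a nontrivial coprime action downstairs we get a value upstairs, a `q`-element, whose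
image has order `q`. -/
theorem exists_val_orderOf_eq [Finite G] (π : G →* H) (hπ : Function.Surjective π) {q : ℕ}
    [Fact q.Prime] (B : Subgroup H) (hB : IsPGroup q B) (g : H)
    (hg : g ∈ Subgroup.normalizer (B : Set H)) (hcop : (orderOf g).Coprime q)
    (hne : ∃ a ∈ B, cm a g ≠ 1) (k : ℕ) :
    ∃ z : G, IsVal k z ∧ (∃ m : ℕ, z ^ (q ^ m) = 1) ∧ orderOf (π z) = q := by
  classical
  haveI : Finite H := Finite.of_surjective π hπ
  obtain ⟨Q, n, hQ, hQB, hn, hng⟩ := exists_lift_normalizing π hπ B hB g hg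
  have hlift : ∀ b : B, ∃ u ∈ Q, π u = b := by
    intro b
    have : (b : H) ∈ Q.map π := by
      rw [hQB]
      exact b.2
    obtain ⟨u, hu, hub⟩ := this
    exact ⟨u, hu, hub⟩
  set φ := conjHom B g hg with hφ
  set S : Set B := {x | ∃ z ∈ Q, IsVal k z ∧ π z = x} with hS
  have hbase : ∀ a, (cf φ)^[k] a ∈ S := by
    intro a
    obtain ⟨u, hu, hua⟩ := hlift a
    refine ⟨_, iter_mem hn hu k, iter_isVal n u k, ?_⟩
    rw [map_iter, hng, hua, hφ, coe_iter_cf]
  have hclos : ∀ x ∈ S, ∀ a : B, cm x a ∈ S := by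
    rintro x ⟨z, hz, hzk, hzx⟩ a
    obtain ⟨u, hu, hua⟩ := hlift a
    refine ⟨cm z u, ?_, hzk.cm u, ?_⟩
    · simp only [cm]
      exact Q.mul_mem (Q.mul_mem (Q.mul_mem hz hu) (Q.inv_mem hz)) (Q.inv_mem hu)
    · rw [map_cm, hzx, hua]
      simp [cm]
  have hn1 : ∀ u : B, φ^[orderOf g] u = u := by
    intro u
    apply Subtype.ext
    rw [hφ, conjHom_iter, pow_orderOf_eq_one]
    simp
  have hne' : ∃ a, φ a ≠ a := by
    obtain ⟨a, ha, hac⟩ := hne
    refine ⟨⟨a, ha⟩, fun h => hac ?_⟩
    have h1 : cf φ ⟨a, ha⟩ = 1 := by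
      rw [cf, h, mul_inv_cancel]
    have h2 := coe_cf_conjHom B g hg ⟨a, ha⟩
    rw [← hφ, h1] at h2
    simpa using h2.symm
  obtain ⟨x, ⟨z, hz, hzk, hzx⟩, hord⟩ :=
    exists_orderOf_eq_of_words hB hn1 hcop hne' k S hbase hclos
  refine ⟨z, hzk, ?_, ?_⟩
  · obtain ⟨m, hm⟩ := hQ ⟨z, hz⟩
    refine ⟨m, ?_⟩
    have := congrArg Subtype.val hm
    simpa using this
  · rw [hzx, Subgroup.orderOf_coe]
    exact hord

end words

/-- The key consequence of the product-order condition. -/
def CondC (k : ℕ) (G : Type*) [Group G] : Prop :=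
  ∀ y b : G, IsVal k y → (orderOf y).Coprime (orderOf (cm y b)) → cm y b = 1

theorem CondC.subgroup {G : Type*} [Group G] {k : ℕ} (h : CondC k G) (K : Subgroup G) :
    CondC k K := by
  intro y b hy hc
  have h1 : IsVal k (y : G) := hy.map K.subtype
  have h2 : ((cm y b : K) : G) = cm (y : G) (b : G) := rfl
  apply Subtype.ext
  rw [h2]
  apply h _ _ h1
  rw [← h2, Subgroup.orderOf_coe, Subgroup.orderOf_coe]
  exact hc

section nilp

variable {G : Type u} [Group G] [Finite G]

/-- In a normal nilpotent subgroup all `p`-elements lie in a normal `p`-subgroup. -/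
theorem exists_normal_pPart (p : ℕ) [Fact p.Prime] (N : Subgroup G) (hN : N.Normal)
    (hn : Group.IsNilpotent N) :
    ∃ R : Subgroup G, R.Normal ∧ IsPGroup p R ∧ R ≤ N ∧
      ∀ x ∈ N, (∃ j : ℕ, x ^ (p ^ j) = 1) → x ∈ R := by
  obtain ⟨P⟩ : Nonempty (Sylow p N) := inferInstance
  have hP : (P : Subgroup N).Normal := inferInstance
  have hPc : (P : Subgroup N).Characteristic := Sylow.characteristic_of_normal P hP
  refine ⟨(P : Subgroup N).map N.subtype, inferInstance, P.isPGroup'.map _, ?_, ?_⟩
  · rintro _ ⟨x, -, rfl⟩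
    exact x.2
  · rintro x hx ⟨j, hj⟩
    have hz : IsPGroup p (Subgroup.zpowers (⟨x, hx⟩ : N)) := by
      rw [IsPGroup.iff_card]
      rw [Nat.card_zpowers]
      have h1 : orderOf (⟨x, hx⟩ : N) ∣ p ^ j := by
        apply orderOf_dvd_of_pow_eq_one
        apply Subtype.ext
        simpa using hj
      obtain ⟨i, -, hi⟩ := (Nat.dvd_prime_pow Fact.out).mp h1
      exact ⟨i, hi⟩
    obtain ⟨S, hS⟩ := hz.exists_le_sylow
    have hSP : S = P := by
      haveI := Sylow.unique_of_normal P hP
      exact Subsingleton.elim _ _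
    have : (⟨x, hx⟩ : N) ∈ (P : Subgroup N) := by
      rw [← hSP]
      exact hS (Subgroup.mem_zpowers _)
    exact ⟨_, this, rfl⟩

/-- The solvable case. -/
theorem lcs_isNilpotent_of_solvable [hsol : Group.IsSolvable G] (k : ℕ) (hC : CondC k G) :
    Group.IsNilpotent ((⊤ : Subgroup G).lowerCentralSeries k) := by
  classical
  set L := (⊤ : Subgroup G).lowerCentralSeries k with hL
  haveI hLn : L.Normal := inferInstance
  have key : ∀ p : ℕ, p.Prime → ∀ x ∈ L, ∃ j : ℕ, x ^ (p ^ j) ∈
      Subgroup.centralizer (pCore p G : Set G) := by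
    intro p hp x hx
    haveI : Fact p.Prime := ⟨hp⟩
    set O := pCore p G with hO
    haveI hOn : O.Normal := pCore_normal p G
    have hOp : IsPGroup p O := pCore_isPGroup
    set C := Subgroup.centralizer (O : Set G) with hCdef
    haveI hCn : C.Normal := Subgroup.normal_centralizer
    let Q := G ⧸ C
    let R : Subgroup Q := pCore p Q
    haveI hRn : R.Normal := pCore_normal p Q
    let π : G →* (Q ⧸ R) := (QuotientGroup.mk' R).comp (QuotientGroup.mk' C)
    have hπ : Function.Surjective π :=
      (QuotientGroup.mk'_surjective R).comp (QuotientGroup.mk'_surjective C)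
    have hπC : ∀ y ∈ C, π y = 1 := by
      intro y hy
      have : QuotientGroup.mk' C y = 1 := by
        rw [QuotientGroup.mk'_apply, QuotientGroup.eq_one_iff]
        exact hy
      simp [π, this]
    -- values of order prime to `p` are trivial in the quotient
    have star : ∀ y : G, IsVal k y → (orderOf y).Coprime p → π y = 1 := by
      intro y hy hc
      by_contra hne
      have hyC : y ∉ C := fun h => hne (hπC y h)
      rw [hCdef, Subgroup.mem_centralizer_iff] at hyC
      push Not at hyC
      obtain ⟨a, ha, hay⟩ := hyC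
      have hcm : cm y a ∈ O := by
        have h1 : y * a * y⁻¹ ∈ O := hOn.conj_mem a ha y
        simp only [cm]
        exact O.mul_mem h1 (O.inv_mem ha)
      have hcop : (orderOf y).Coprime (orderOf (cm y a)) := by
        obtain ⟨j, hj⟩ := hOp ⟨_, hcm⟩
        have h1 : (cm y a) ^ (p ^ j) = 1 := by
          have := congrArg Subtype.val hj
          simpa using this
        have h2 : orderOf (cm y a) ∣ p ^ j := orderOf_dvd_of_pow_eq_one h1
        exact Nat.Coprime.coprime_dvd_right h2 (hc.pow_right j)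
      have := hC y a hy hcop
      apply hay
      exact (cm_eq_one_iff.mp this).symm
    -- the quotient has no `O_p`
    have hRbot : pCore p (Q ⧸ R) = ⊥ := pCore_quotient_eq_bot
    haveI : Group.IsSolvable (Q ⧸ R) := Group.isSolvable_of_surjective hπ
    -- order prime to `p`
    have hcard : (Nat.card (Q ⧸ R)).Coprime p := by
      rw [Nat.coprime_comm, Nat.Prime.coprime_iff_not_dvd hp]
      intro hd
      obtain ⟨g, hg⟩ := exists_prime_orderOf_dvd_card' (G := Q ⧸ R) p hd
      -- `g` does not centralize the Fitting subgroup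
      have h1 : g ∉ Subgroup.centralizer (fittingSubgroup (Q ⧸ R) : Set (Q ⧸ R)) := by
        intro hgc
        have hgF := Cfsg.Agent.Lib.Solvable.Fitting.centralizer_fittingSubgroup_le hgc
        obtain ⟨R₁, hR₁, hR₁p, -, hR₁x⟩ := exists_normal_pPart p (fittingSubgroup (Q ⧸ R))
          fittingSubgroup_normal fittingSubgroup_isNilpotent
        have h2 : g ∈ R₁ := hR₁x g hgF ⟨1, by rw [pow_one, ← hg, pow_orderOf_eq_one]⟩
        have h3 : R₁ ≤ pCore p (Q ⧸ R) := le_pCore hR₁ hR₁p
        rw [hRbot] at h3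
        have h4 : g = 1 := by simpa using h3 h2
        rw [h4, orderOf_one] at hg
        exact hp.one_lt.ne hg
      -- hence not some `O_r`
      have h2 : ∃ r : Nat.Primes, g ∉ Subgroup.centralizer
          (pCore (r : ℕ) (Q ⧸ R) : Set (Q ⧸ R)) := by
        by_contra hall
        push Not at hall
        apply h1
        rw [fittingSubgroup_eq_iSup_pCore]
        have h5 : (⨆ r : Nat.Primes, pCore (r : ℕ) (Q ⧸ R)) ≤
            Subgroup.centralizer ({g} : Set (Q ⧸ R)) := by
          refine iSup_le fun r => ?_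
          intro b hb
          rw [Subgroup.mem_centralizer_iff]
          intro c hc
          rw [Set.mem_singleton_iff] at hc
          subst hc
          exact ((Subgroup.mem_centralizer_iff.mp (hall r)) b hb).symm
        rw [Subgroup.mem_centralizer_iff]
        intro b hb
        have := Subgroup.mem_centralizer_iff.mp (h5 hb) g rfl
        exact this.symm
      obtain ⟨⟨r, hr⟩, hrg⟩ := h2
      haveI : Fact r.Prime := ⟨hr⟩
      simp only at hrg
      rw [Subgroup.mem_centralizer_iff] at hrg
      push Not at hrg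
      obtain ⟨b, hb, hbg⟩ := hrg
      have hrp : r ≠ p := by
        rintro rfl
        rw [hRbot] at hb
        have : b = 1 := by simpa using hb
        rw [this] at hbg
        simp at hbg
      have hcop : (orderOf g).Coprime r := by
        rw [hg]
        exact (Nat.coprime_primes hp hr).mpr hrp.symm
      obtain ⟨z, hzk, ⟨m, hm⟩, hzo⟩ := exists_val_orderOf_eq π hπ (pCore r (Q ⧸ R)) pCore_isPGroup g
        (by
          have : (pCore r (Q ⧸ R)).Normal := pCore_normal r _
          rw [Subgroup.normalizer_eq_top_iff.mpr this]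
          trivial)
        hcop ⟨b, hb, fun h => hbg (cm_eq_one_iff.mp h)⟩ k
      have hzc : (orderOf z).Coprime p := by
        have h3 : orderOf z ∣ r ^ m := orderOf_dvd_of_pow_eq_one hm
        exact Nat.Coprime.coprime_dvd_left h3 (((Nat.coprime_primes hr hp).mpr hrp).pow_left m)
      have h4 := star z hzk hzc
      rw [h4, orderOf_one] at hzo
      exact hr.one_lt.ne hzo
    -- every value is trivial in the quotient
    have hval : ∀ y : G, IsVal k y → π y = 1 := by
      intro y hy
      obtain ⟨H, hH1, hH2, hH3⟩ := Cfsg.Agent.Lib.Coprime.Hall.exists_isPiHallOf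
        {r : ℕ | r ≠ p} (⊤ : Subgroup G)
      have hH4 : ∀ t : ℕ, t.Prime → t ∣ H.index → t = p := by
        intro t ht htd
        by_contra hne
        have := hH3 t ht hne
        rw [Subgroup.relIndex_top_right] at this
        exact this htd
      have hHp : Function.Surjective (π.comp H.subtype) := by
        have h5 : (H.map π) = ⊤ := by
          rw [← Subgroup.index_eq_one]
          by_contra hne
          obtain ⟨t, ht, htd⟩ := Nat.exists_prime_and_dvd hne
          have h6 := hH4 t ht (htd.trans (Subgroup.index_map_dvd H hπ))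
          have h7 : t ∣ Nat.card (Q ⧸ R) := htd.trans (Subgroup.index_dvd_card _)
          rw [h6] at h7
          exact (Nat.Prime.coprime_iff_not_dvd hp).mp hcard.symm h7
        intro b
        have : b ∈ H.map π := by
          rw [h5]
          trivial
        obtain ⟨x, hx, hxb⟩ := this
        exact ⟨⟨x, hx⟩, hxb⟩
      obtain ⟨z, hzk, hzy⟩ := (hy.map π).lift (π.comp H.subtype) hHp
      have hz1 : IsVal k (z : G) := hzk.map H.subtype
      have hzc : (orderOf (z : G)).Coprime p := by
        rw [Nat.coprime_comm, Nat.Prime.coprime_iff_not_dvd hp]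
        intro hd
        have h7 : p ∣ Nat.card H := by
          refine hd.trans ?_
          rw [Subgroup.orderOf_coe]
          exact orderOf_dvd_natCard z
        exact hH2 p hp h7 rfl
      have h8 := star _ hz1 hzc
      rw [← hzy]
      exact h8
    have hLker : L ≤ π.ker := by
      apply lcs_le_of_forall k π.ker
      intro y hy
      exact hval y hy
    have hx1 : π x = 1 := hLker hx
    have hx2 : QuotientGroup.mk' C x ∈ R := by
      have : QuotientGroup.mk' R (QuotientGroup.mk' C x) = 1 := hx1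
      rwa [QuotientGroup.mk'_apply, QuotientGroup.eq_one_iff] at this
    have hRp : IsPGroup p R := pCore_isPGroup
    obtain ⟨j, hj⟩ := hRp ⟨_, hx2⟩
    refine ⟨j, ?_⟩
    have h9 : (QuotientGroup.mk' C x) ^ (p ^ j) = 1 := by
      have := congrArg Subtype.val hj
      simpa using this
    rw [← map_pow, QuotientGroup.mk'_apply, QuotientGroup.eq_one_iff] at h9
    exact h9
  have hLF : L ≤ fittingSubgroup G :=
    Cfsg.Agent.Lib.Coprime.PrimeAction.le_fitting_of_pow_mem_centralizer L key
  haveI hFn : Group.IsNilpotent (fittingSubgroup G) := fittingSubgroup_isNilpotent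
  have h1 : Group.IsNilpotent (L.subgroupOf (fittingSubgroup G)) := Subgroup.isNilpotent _
  exact Group.nilpotent_of_mulEquiv (Subgroup.subgroupOfEquivOfLe hLF)

end nilp

end Cfsg.Agent.Lib.LCSVal
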