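/-
The nonsolvable case: with the Odd Order Theorem as input, the condition forces solvability.
-/
import Cfsg.Agent.Lib.LCSVal.Solv
import Cfsg.Agent.S0071
import Cfsg.Agent.S0199
import Cfsg.Agent.Lib.OddLocal.CN

set_option autoImplicit false

namespace Cfsg.Agent.Lib.LCSVal

open Cfsg Cfsg.Agent.Lib.Core.Basic

universe u

section gen

variable {X : Type u} [Group X] [Finite X]

/-- A nilpotent group generated by `p`-elements is a `p`-group. -/
theorem isPGroup_of_nilpotent_of_closure [hn : Group.IsNilpotent X] {p : ℕ} [Fact p.Prime]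
    (A : Set X) (hA : Subgroup.closure A = ⊤) (h : ∀ a ∈ A, ∃ m : ℕ, a ^ (p ^ m) = 1) :
    IsPGroup p X := by
  obtain ⟨R, -, hRp, -, hR⟩ := exists_normal_pPart p (⊤ : Subgroup X) inferInstance
    (Subgroup.isNilpotent _)
  have hAR : Subgroup.closure A ≤ R := by
    rw [Subgroup.closure_le]
    intro a ha
    exact hR a (Subgroup.mem_top a) (h a ha)
  rw [hA] at hAR
  intro x
  obtain ⟨j, hj⟩ := hRp ⟨x, hAR (Subgroup.mem_top x)⟩
  refine ⟨j, ?_⟩
  have := congrArg Subtype.val hj
  simpa using this

/-- The local lemma. -/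
theorem isPGroup_two_of_gen (k : ℕ) (A : Set X) (hA : Subgroup.closure A = ⊤)
    (h2 : ∀ a ∈ A, ∃ m : ℕ, a ^ (2 ^ m) = 1)
    (hL : Group.IsNilpotent ((⊤ : Subgroup X).lowerCentralSeries k))
    (hcomm : ∀ a ∈ A, ∀ b : X, (orderOf a).Coprime (orderOf (cm a b)) → cm a b = 1) :
    IsPGroup 2 X := by
  classical
  set L := (⊤ : Subgroup X).lowerCentralSeries k with hLdef
  haveI hLn : L.Normal := inferInstance
  -- the quotient is a 2-group
  have hQn : Group.IsNilpotent (X ⧸ L) := by
    rw [Subgroup.nilpotent_iff_lowerCentralSeries]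
    refine ⟨k, ?_⟩
    rw [eq_bot_iff]
    apply lcs_le_of_forall k (⊥ : Subgroup (X ⧸ L))
    intro y hy
    obtain ⟨x, hx, rfl⟩ := hy.lift (QuotientGroup.mk' L) (QuotientGroup.mk'_surjective L)
    have := hx.mem_lcs
    rw [Subgroup.mem_bot, QuotientGroup.mk'_apply, QuotientGroup.eq_one_iff]
    exact this
  have hQ2 : IsPGroup 2 (X ⧸ L) := by
    apply isPGroup_of_nilpotent_of_closure ((QuotientGroup.mk' L) '' A)
    · rw [← MonoidHom.map_closure, hA, ← MonoidHom.range_eq_map, MonoidHom.range_eq_top]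
      exact QuotientGroup.mk'_surjective L
    · rintro _ ⟨a, ha, rfl⟩
      obtain ⟨m, hm⟩ := h2 a ha
      exact ⟨m, by rw [← map_pow, hm, map_one]⟩
  rw [IsPGroup.iff_card]
  refine ⟨_, Nat.eq_prime_pow_of_unique_prime_dvd Nat.card_pos.ne' ?_⟩
  intro p hp hpd
  by_contra hp2
  haveI : Fact p.Prime := ⟨hp⟩
  -- `p`-elements lie in `L`
  have hpL : ∀ x : X, (∃ j : ℕ, x ^ (p ^ j) = 1) → x ∈ L := by
    rintro x ⟨j, hj⟩
    obtain ⟨i, hi⟩ := hQ2 (QuotientGroup.mk' L x)
    have h1 : orderOf (QuotientGroup.mk' L x) ∣ 2 ^ i := orderOf_dvd_of_pow_eq_one hi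
    have h3 : orderOf (QuotientGroup.mk' L x) ∣ p ^ j := by
      apply orderOf_dvd_of_pow_eq_one
      rw [← map_pow, hj, map_one]
    have h4 : (2 ^ i).Coprime (p ^ j) :=
      Nat.Coprime.pow _ _ ((Nat.coprime_primes Nat.prime_two hp).mpr (Ne.symm hp2))
    have h5 := Nat.eq_one_of_dvd_coprimes h4 h1 h3
    have h6 := orderOf_eq_one_iff.mp h5
    rwa [QuotientGroup.mk'_apply, QuotientGroup.eq_one_iff] at h6
  obtain ⟨R, hRn, hRp, hRL, hR⟩ := exists_normal_pPart p L hLn hL
  -- `A` centralizes `R`
  have hAR : ∀ a ∈ A, ∀ b ∈ R, a * b = b * a := by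
    intro a ha b hb
    have hcm : cm a b ∈ R := by
      have h1 : a * b * a⁻¹ ∈ R := hRn.conj_mem b hb a
      simp only [cm]
      exact R.mul_mem h1 (R.inv_mem hb)
    have hc : (orderOf a).Coprime (orderOf (cm a b)) := by
      obtain ⟨j, hj⟩ := hRp ⟨_, hcm⟩
      have h3 : (cm a b) ^ (p ^ j) = 1 := by
        have := congrArg Subtype.val hj
        simpa using this
      obtain ⟨m, hm⟩ := h2 a ha
      have h4 : orderOf (cm a b) ∣ p ^ j := orderOf_dvd_of_pow_eq_one h3
      have h5 : orderOf a ∣ 2 ^ m := orderOf_dvd_of_pow_eq_one hm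
      refine Nat.Coprime.coprime_dvd_left h5 (Nat.Coprime.coprime_dvd_right h4 ?_)
      exact Nat.Coprime.pow _ _ ((Nat.coprime_primes Nat.prime_two hp).mpr (Ne.symm hp2))
    exact cm_eq_one_iff.mp (hcomm a ha b hc)
  have hRc : ∀ b ∈ R, ∀ x : X, x * b = b * x := by
    intro b hb x
    have h1 : Subgroup.closure A ≤ Subgroup.centralizer ({b} : Set X) := by
      rw [Subgroup.closure_le]
      intro a ha
      rw [SetLike.mem_coe, Subgroup.mem_centralizer_iff]
      intro c hc
      rw [Set.mem_singleton_iff] at hc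
      subst hc
      exact (hAR a ha c hb).symm
    rw [hA] at h1
    have h2 := Subgroup.mem_centralizer_iff.mp (h1 (Subgroup.mem_top x)) b rfl
    exact h2.symm
  -- an element of order `p`
  obtain ⟨x, hx⟩ := exists_prime_orderOf_dvd_card' (G := X) p hpd
  have hz : IsPGroup p (Subgroup.zpowers x) := by
    rw [IsPGroup.iff_card, Nat.card_zpowers, hx]
    exact ⟨1, (pow_one p).symm⟩
  obtain ⟨P, hP⟩ := hz.exists_le_sylow
  have hxP : x ∈ (P : Subgroup X) := hP (Subgroup.mem_zpowers x)
  have hPR : (P : Subgroup X) ≤ R := by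
    intro y hy
    obtain ⟨j, hj⟩ := P.isPGroup' ⟨y, hy⟩
    have hj' : y ^ (p ^ j) = 1 := by
      have := congrArg Subtype.val hj
      simpa using this
    exact hR y (hpL y ⟨j, hj'⟩) ⟨j, hj'⟩
  have hNC : Subgroup.normalizer (P : Set X) ≤ Subgroup.centralizer (P : Set X) := by
    intro g _
    rw [Subgroup.mem_centralizer_iff]
    intro c hc
    exact (hRc c (hPR hc) g).symm
  have hcompl := MonoidHom.ker_transferSylow_isComplement' P hNC
  have hker : (MonoidHom.transferSylow P hNC).ker = ⊤ := by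
    rw [eq_top_iff, ← hA, Subgroup.closure_le]
    intro a ha
    obtain ⟨m, hm⟩ := h2 a ha
    have h1 : (MonoidHom.transferSylow P hNC a) ^ (2 ^ m) = 1 := by
      rw [← map_pow, hm, map_one]
    obtain ⟨j, hj⟩ := P.isPGroup' (MonoidHom.transferSylow P hNC a)
    have h3 := orderOf_dvd_of_pow_eq_one h1
    have h4 := orderOf_dvd_of_pow_eq_one hj
    have h5 : (2 ^ m).Coprime (p ^ j) :=
      Nat.Coprime.pow _ _ ((Nat.coprime_primes Nat.prime_two hp).mpr (Ne.symm hp2))
    have h6 := Nat.eq_one_of_dvd_coprimes h5 h3 h4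
    exact orderOf_eq_one_iff.mp h6
  have hdis := hcompl.disjoint
  rw [hker] at hdis
  have hx1 : x ∈ (⊤ : Subgroup X) ⊓ (P : Subgroup X) := ⟨Subgroup.mem_top x, hxP⟩
  rw [disjoint_iff.mp hdis, Subgroup.mem_bot] at hx1
  rw [hx1, orderOf_one] at hx
  exact hp.one_lt.ne hx

end gen

section simple

variable {T : Type u} [Group T]

theorem isSolvable_of_zpowers_eq_top {x : T} (h : Subgroup.zpowers x = ⊤) : Group.IsSolvable T := by
  apply Group.isSolvable_of_comm
  intro a b
  have ha : a ∈ Subgroup.zpowers x := h ▸ Subgroup.mem_top a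
  have hb : b ∈ Subgroup.zpowers x := h ▸ Subgroup.mem_top b
  obtain ⟨i, rfl⟩ := ha
  obtain ⟨j, rfl⟩ := hb
  simp only
  rw [← zpow_add, ← zpow_add, add_comm]

theorem mem_normalizer_zpowers_of_inv {g x : T} (h : g * x * g⁻¹ = x⁻¹) :
    g ∈ Subgroup.normalizer (Subgroup.zpowers x : Set T) := by
  have h' : g⁻¹ * x * g = x⁻¹ := by
    have h2 : x = g⁻¹ * x⁻¹ * g := by
      rw [← h]
      group
    have h3 : g⁻¹ * x * g = (g⁻¹ * x⁻¹ * g)⁻¹ := by
      group
    rw [h3, ← h2]
  have hc : ∀ (i : ℤ), g * x ^ i * g⁻¹ = x⁻¹ ^ i := by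
    intro i
    rw [← h, conj_zpow]
  have hc' : ∀ (i : ℤ), g⁻¹ * x ^ i * g = x⁻¹ ^ i := by
    intro i
    rw [← h', ← inv_inv g, inv_inv g⁻¹, conj_zpow]
  rw [Subgroup.mem_normalizer_iff]
  intro a
  constructor
  · rintro ⟨i, rfl⟩
    simp only
    rw [hc]
    exact ⟨-i, by simp⟩
  · rintro ⟨i, hi⟩
    simp only at hi
    have : a = x⁻¹ ^ i := by
      rw [← hc', hi]
      group
    rw [this]
    exact ⟨-i, by simp⟩

/-- A nonabelian simple group is not generated by two involutions. -/
theorem closure_pair_ne_top [hs : IsSimpleGroup T] (hns : ¬ Group.IsSolvable T) {s u : T}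
    (hs2 : s * s = 1) (hu2 : u * u = 1) : Subgroup.closure {s, u} ≠ ⊤ := by
  intro htop
  have hsi : s⁻¹ = s := inv_eq_of_mul_eq_one_left hs2
  have hui : u⁻¹ = u := inv_eq_of_mul_eq_one_left hu2
  have hinv : (s * u)⁻¹ = u * s := by
    rw [mul_inv_rev, hsi, hui]
  have h1 : s ∈ Subgroup.normalizer (Subgroup.zpowers (s * u) : Set T) := by
    apply mem_normalizer_zpowers_of_inv
    rw [hinv, hsi, ← mul_assoc, hs2, one_mul]
  have h2 : u ∈ Subgroup.normalizer (Subgroup.zpowers (s * u) : Set T) := by
    apply mem_normalizer_zpowers_of_inv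
    rw [hinv, hui, mul_assoc, mul_assoc, hu2, mul_one]
  have h3 : Subgroup.closure {s, u} ≤ Subgroup.normalizer (Subgroup.zpowers (s * u) : Set T) := by
    rw [Subgroup.closure_le]
    rintro x (rfl | hx)
    · exact h1
    · rw [Set.mem_singleton_iff] at hx
      rw [hx]
      exact h2
  rw [htop, top_le_iff, Subgroup.normalizer_eq_top_iff] at h3
  rcases h3.eq_bot_or_eq_top with h4 | h4
  · have h5 : s * u = 1 := by
      rwa [Subgroup.zpowers_eq_bot] at h4
    have h6 : u = s := by
      have := eq_inv_of_mul_eq_one_right h5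
      rwa [hsi] at this
    apply hns
    apply isSolvable_of_zpowers_eq_top (x := s)
    rw [eq_top_iff, ← htop, Subgroup.closure_le]
    rintro x (rfl | hx)
    · exact Subgroup.mem_zpowers _
    · rw [Set.mem_singleton_iff] at hx
      rw [hx, h6]
      exact Subgroup.mem_zpowers _
  · exact hns (isSolvable_of_zpowers_eq_top h4)

end simple

section simpleQuot

variable {G : Type u} [Group G] [Finite G]

theorem exists_simple_quotient [Nontrivial G] :
    ∃ M : Subgroup G, M ≠ ⊤ ∧ ∃ _ : M.Normal, IsSimpleGroup (G ⧸ M) := by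
  classical
  set S : Set (Subgroup G) := {N | N.Normal ∧ N ≠ ⊤} with hS
  have hne : S.Nonempty := ⟨⊥, inferInstance, bot_ne_top⟩
  obtain ⟨M, hM⟩ := S.toFinite.exists_maximal hne
  obtain ⟨⟨hMn, hMt⟩, hMmax⟩ := hM
  refine ⟨M, hMt, hMn, ?_⟩
  haveI hnt : Nontrivial (G ⧸ M) := by
    by_contra hnt
    rw [not_nontrivial_iff_subsingleton] at hnt
    apply hMt
    rw [eq_top_iff]
    intro x _
    have : (x : G ⧸ M) = 1 := Subsingleton.elim _ _
    rwa [QuotientGroup.eq_one_iff] at this
  refine ⟨?_⟩
  intro H hH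
  have hc : (H.comap (QuotientGroup.mk' M)).Normal := hH.comap _
  have hle : M ≤ H.comap (QuotientGroup.mk' M) := by
    intro x hx
    rw [Subgroup.mem_comap]
    have : QuotientGroup.mk' M x = 1 := by
      rw [QuotientGroup.mk'_apply, QuotientGroup.eq_one_iff]
      exact hx
    rw [this]
    exact H.one_mem
  by_cases htop : H.comap (QuotientGroup.mk' M) = ⊤
  · right
    rw [eq_top_iff]
    intro q _
    obtain ⟨x, rfl⟩ := QuotientGroup.mk'_surjective M q
    have : x ∈ H.comap (QuotientGroup.mk' M) := htop ▸ Subgroup.mem_top x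
    exact this
  · left
    have h2 := hMmax ⟨hc, htop⟩ hle
    rw [eq_bot_iff]
    intro q hq
    obtain ⟨x, rfl⟩ := QuotientGroup.mk'_surjective M q
    have : x ∈ M := h2 hq
    rw [Subgroup.mem_bot, QuotientGroup.mk'_apply, QuotientGroup.eq_one_iff]
    exact this

end simpleQuot

/-- The nonsolvable case. -/
theorem solvable_of_condC
    (hFT : ∀ (X : Type u) [Group X] [Finite X], Odd (Nat.card X) → Group.IsSolvable X) (k : ℕ) :
    ∀ (n : ℕ) (G : Type u) [Group G] [Finite G], Nat.card G ≤ n → CondC k G → Group.IsSolvable G := by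
  intro n
  induction n with
  | zero =>
    intro G _ _ hn
    have := Nat.card_pos (α := G)
    omega
  | succ n ih =>
    intro G _ _ hn hC
    classical
    by_contra hns
    have hnt : Nontrivial G := by
      by_contra hnt
      rw [not_nontrivial_iff_subsingleton] at hnt
      exact hns (Group.isSolvable_of_comm (fun a b => Subsingleton.elim _ _))
    -- proper subgroups are solvable
    have hsub : ∀ K : Subgroup G, K ≠ ⊤ → Group.IsSolvable K := by
      intro K hK
      apply ih K _ (hC.subgroup K)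
      have h1 := Subgroup.card_mul_index K
      have h2 : K.index ≠ 1 := fun h => hK (Subgroup.index_eq_one.mp h)
      have h3 : K.index ≠ 0 := Subgroup.index_ne_zero_of_finite
      have h4 : Nat.card K ≠ 0 := Nat.card_pos.ne'
      have h5 : 2 ≤ K.index := by omega
      have h6 : Nat.card K * 2 ≤ Nat.card G := by
        rw [← h1]
        exact Nat.mul_le_mul_left _ h5
      have h7 := Nat.card_pos (α := K)
      omega
    obtain ⟨M, hMt, hMn, hTs⟩ := exists_simple_quotient (G := G)
    set T := G ⧸ M with hT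
    have hMsol := hsub M hMt
    set π : G →* T := QuotientGroup.mk' M with hπdef
    have hπ : Function.Surjective π := QuotientGroup.mk'_surjective M
    have hTns : ¬ Group.IsSolvable T := by
      intro hsolT
      apply hns
      exact Group.isSolvable_of_ker_le_range M.subtype π (by
        rw [hπdef, QuotientGroup.ker_mk', Subgroup.range_subtype])
    -- even order
    have hT2 : 2 ∣ Nat.card T := by
      by_contra h
      exact hTns (hFT T (by rwa [← Nat.not_even_iff_odd, even_iff_two_dvd]))
    haveI : Fact (Nat.Prime 2) := ⟨Nat.prime_two⟩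
    obtain ⟨x₂, hx₂⟩ := exists_prime_orderOf_dvd_card' (G := T) 2 hT2
    have hz₂ : IsPGroup 2 (Subgroup.zpowers x₂) := by
      rw [IsPGroup.iff_card, Nat.card_zpowers, hx₂]
      exact ⟨1, (pow_one 2).symm⟩
    obtain ⟨P, hP⟩ := hz₂.exists_le_sylow
    have hnc : ¬ ∃ N : Subgroup T, N.Normal ∧ N.IsComplement' (P : Subgroup T) := by
      rintro ⟨N, hN, hNc⟩
      rcases hN.eq_bot_or_eq_top with h | h
      · subst h
        have hcard := hNc.card_mul_card
        have h1 : IsPGroup 2 T := by
          have h2 : Nat.card (P : Subgroup T) = Nat.card T := by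
            simpa using hcard
          rw [IsPGroup.iff_card]
          obtain ⟨j, hj⟩ := IsPGroup.iff_card.mp P.isPGroup'
          exact ⟨j, h2 ▸ hj⟩
        haveI := h1.isNilpotent
        exact hTns inferInstance
      · subst h
        have hdis := hNc.disjoint
        have hx1 : x₂ ∈ (⊤ : Subgroup T) ⊓ (P : Subgroup T) :=
          ⟨Subgroup.mem_top _, hP (Subgroup.mem_zpowers x₂)⟩
        rw [disjoint_iff.mp hdis, Subgroup.mem_bot] at hx1
        rw [hx1, orderOf_one] at hx₂
        omega
    have hF := (Cfsg.Agent.S0071.result (G := T) (p := 2) P).not.mp hnc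
    push Not at hF
    obtain ⟨Q, hQP, g, hgN, hgc, hgC⟩ := hF
    rw [Subgroup.mem_centralizer_iff] at hgC
    push Not at hgC
    obtain ⟨a, ha, hag⟩ := hgC
    have hQ2 : IsPGroup 2 Q := P.isPGroup'.to_le hQP
    obtain ⟨z, hzk, ⟨m, hm⟩, hzo⟩ := exists_val_orderOf_eq π hπ Q hQ2 g hgN hgc
      ⟨a, ha, fun h => hag (cm_eq_one_iff.mp h)⟩ k
    have hz2 : π z * π z = 1 := by
      rw [← pow_two, ← hzo, pow_orderOf_eq_one]
    -- the subgroups generated by two conjugates are 2-groups
    have hK : ∀ b : G, IsPGroup 2 (Subgroup.closure {z, b * z * b⁻¹}) := by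
      intro b
      set K := Subgroup.closure {z, b * z * b⁻¹} with hKdef
      have hKne : K ≠ ⊤ := by
        intro htop
        have h1 : Subgroup.closure {π z, π b * π z * (π b)⁻¹} = ⊤ := by
          have h2 : K.map π = ⊤ := by
            rw [htop, ← MonoidHom.range_eq_map, MonoidHom.range_eq_top]
            exact hπ
          rw [← h2, hKdef, MonoidHom.map_closure]
          congr 1
          rw [Set.image_pair]
          simp
        refine closure_pair_ne_top hTns hz2 ?_ h1
        have h3 : π b * π z * (π b)⁻¹ * (π b * π z * (π b)⁻¹) = π b * (π z * π z) * (π b)⁻¹ := by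
          group
        rw [h3, hz2]
        simp
      haveI hKs : Group.IsSolvable K := hsub K hKne
      have hKn := lcs_isNilpotent_of_solvable k (hC.subgroup K)
      have hA : ∀ c : K, c ∈ (Subtype.val ⁻¹' {z, b * z * b⁻¹} : Set K) →
          IsVal k (c : G) ∧ (c : G) ^ (2 ^ m) = 1 := by
        rintro c (hc | hc)
        · rw [hc]
          exact ⟨hzk, hm⟩
        · rw [Set.mem_singleton_iff] at hc
          rw [hc]
          refine ⟨hzk.conj b, ?_⟩
          rw [conj_pow, hm]
          simp
      apply isPGroup_two_of_gen k (Subtype.val ⁻¹' {z, b * z * b⁻¹} : Set K)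
        Subgroup.closure_closure_coe_preimage ?_ hKn ?_
      · intro c hc
        refine ⟨m, ?_⟩
        apply Subtype.ext
        simpa using (hA c hc).2
      · intro c hc d hcd
        apply Subtype.ext
        have h2 : ((cm c d : K) : G) = cm (c : G) (d : G) := rfl
        rw [h2]
        apply hC _ _ (hA c hc).1
        rw [← h2, Subgroup.orderOf_coe, Subgroup.orderOf_coe]
        exact hcd
    -- Baer--Suzuki in `T`
    have hX2 : IsPGroup 2 (Subgroup.zpowers (π z)) := by
      rw [IsPGroup.iff_card, Nat.card_zpowers, hzo]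
      exact ⟨1, (pow_one 2).symm⟩
    obtain ⟨N, hNn, hN2, hXN⟩ := Cfsg.Agent.S0199.result (Subgroup.zpowers (π z)) hX2 (by
      intro t
      obtain ⟨b, rfl⟩ := hπ t
      have h1 : IsPGroup 2 ((Subgroup.closure {z, b * z * b⁻¹}).map π) := (hK b).map _
      refine h1.to_le (sup_le ?_ ?_)
      · rw [Subgroup.zpowers_le]
        exact ⟨z, Subgroup.subset_closure (Set.mem_insert _ _), rfl⟩
      · rw [MonoidHom.map_zpowers, Subgroup.zpowers_le]
        refine ⟨b * z * b⁻¹, Subgroup.subset_closure (Set.mem_insert_of_mem _ rfl), ?_⟩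
        simp [MulAut.conj_apply])
    rcases hNn.eq_bot_or_eq_top with h | h
    · have h1 : π z ∈ N := hXN (Subgroup.mem_zpowers _)
      rw [h, Subgroup.mem_bot] at h1
      rw [h1, orderOf_one] at hzo
      omega
    · have h1 : IsPGroup 2 T := by
        intro x
        obtain ⟨j, hj⟩ := hN2 ⟨x, h ▸ Subgroup.mem_top x⟩
        refine ⟨j, ?_⟩
        have := congrArg Subtype.val hj
        simpa using this
      haveI := h1.isNilpotent
      exact hTns inferInstance

/-- The main theorem, given the Odd Order Theorem. -/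
theorem main_of_FT
    (hFT : ∀ (X : Type u) [Group X] [Finite X], Odd (Nat.card X) → Group.IsSolvable X)
    {G : Type u} [Group G] [Finite G] (k : ℕ) :
    Group.IsNilpotent ↥((⊤ : Subgroup G).lowerCentralSeries k) ↔
      ∀ x y : G, (∃ f : Fin (k + 1) → G, x = ((List.ofFn f).tail).foldl (fun a b => a * b * a⁻¹ * b⁻¹) (f 0)) → (∃ f : Fin (k + 1) → G, y = ((List.ofFn f).tail).foldl (fun a b => a * b * a⁻¹ * b⁻¹) (f 0)) → (orderOf x).Coprime (orderOf y) →
        (∀ r : ℕ, r.Prime → r ∣ orderOf x * orderOf y → r ∣ orderOf (x * y)) ∨ orderOf x * orderOf y ≤ orderOf (x * y) := by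
  constructor
  · intro hnil x y hx hy hcop
    right
    have hxk := (exists_fin_iff k x).mp hx
    have hyk := (exists_fin_iff k y).mp hy
    have hxL := hxk.mem_lcs
    have hyL := hyk.mem_lcs
    set L := (⊤ : Subgroup G).lowerCentralSeries k with hL
    -- elements of coprime orders in a nilpotent group commute
    have hcomm : Commute x y := by
      exact Cfsg.Agent.Lib.OddLocal.CN.commute_of_coprime' hnil hxL hyL hcop
    exact (hcomm.orderOf_mul_eq_mul_orderOf_of_coprime hcop).ge
  · intro h
    have hC : CondC k G := by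
      intro y b hy hc
      have ha : IsVal k (cm y b) := hy.cm b
      have hy' : IsVal k (b * y * b⁻¹) := hy.conj b
      have hprod : cm y b * (b * y * b⁻¹) = y := by
        simp only [cm]
        group
      have hord : orderOf (b * y * b⁻¹) = orderOf y := by
        have h0 := MulEquiv.orderOf_eq (MulAut.conj b) y
        simpa [MulAut.conj_apply] using h0
      have h1 := h (cm y b) (b * y * b⁻¹) ((exists_fin_iff k _).mpr ha) ((exists_fin_iff k _).mpr hy')
        (by rw [hord]; exact hc.symm)
      rw [hprod, hord] at h1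
      rcases h1 with h1 | h1
      · by_contra hne
        have hone : orderOf (cm y b) ≠ 1 := fun h2 => hne (orderOf_eq_one_iff.mp h2)
        obtain ⟨r, hr, hrd⟩ := Nat.exists_prime_and_dvd hone
        have h2 := h1 r hr (hrd.trans (dvd_mul_right _ _))
        exact hr.one_lt.ne' (Nat.eq_one_of_dvd_coprimes hc h2 hrd)
      · have hpos : 0 < orderOf y := orderOf_pos y
        have h2 : orderOf (cm y b) ≤ 1 := by
          by_contra hgt
          push Not at hgt
          have : 2 * orderOf y ≤ orderOf (cm y b) * orderOf y := Nat.mul_le_mul_right _ hgt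
          omega
        have h3 : 0 < orderOf (cm y b) := orderOf_pos _
        exact orderOf_eq_one_iff.mp (by omega)
    haveI := solvable_of_condC hFT k _ G le_rfl hC
    exact lcs_isNilpotent_of_solvable k hC

end Cfsg.Agent.Lib.LCSVal
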